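import Groth.Agent.DimTheory.Algebra
import Groth.Agent.TopDimLib.Basic
import Mathlib.RingTheory.TensorProduct.Finite
import Mathlib.RingTheory.TensorProduct.MvPolynomial
import Mathlib.AlgebraicGeometry.Pullbacks
import Mathlib.AlgebraicGeometry.Morphisms.FiniteType

/-!
# Dimension is invariant under extensions of the base field
-/

set_option autoImplicit false

universe u

open CategoryTheory CategoryTheory.Limits AlgebraicGeometry TensorProduct TopologicalSpace

namespace Groth.Agent.FieldExtDim

variable {k K : Type u} [Field k] [Field K] [Algebra k K]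

theorem ringKrullDim_tensor_field (A : Type u) [CommRing A] [Algebra k A] [Algebra.FiniteType k A] :
    ringKrullDim (K ⊗[k] A) = ringKrullDim A := by
  rcases subsingleton_or_nontrivial A with hA | hA
  · rw [ringKrullDim_eq_bot_of_subsingleton, ringKrullDim_eq_bot_of_subsingleton]
  obtain ⟨n, g, hg, hfin, hd⟩ := DimTheory.exists_normalization k A
  rw [hd]
  let h : K ⊗[k] MvPolynomial (Fin n) k →ₐ[k] K ⊗[k] A :=
    Algebra.TensorProduct.map (AlgHom.id k K) g
  have hinj : Function.Injective h := by
    have := Module.Flat.lTensor_preserves_injective_linearMap (M := K) g.toLinearMap hg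
    exact this
  have hf : h.toRingHom.Finite :=
    RingHom.Finite.tensorProductMap (f := AlgHom.id k K) (RingEquiv.refl K).finite hfin
  algebraize [h.toRingHom]
  have : Module.Finite (K ⊗[k] MvPolynomial (Fin n) k) (K ⊗[k] A) := hf
  have : FaithfulSMul (K ⊗[k] MvPolynomial (Fin n) k) (K ⊗[k] A) :=
    (faithfulSMul_iff_algebraMap_injective _ _).2 hinj
  rw [DimTheory.ringKrullDim_eq_of_integral (K ⊗[k] MvPolynomial (Fin n) k) (K ⊗[k] A),
    ringKrullDim_eq_of_ringEquiv (MvPolynomial.algebraTensorAlgEquiv (R := k) (σ := Fin n) (A := K)).toRingEquiv,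
    DimTheory.ringKrullDim_mvPolynomial_fin]

theorem dim_le_iSup_of_open_cover {X : Type u} [TopologicalSpace X] {ι : Type u} (U : ι → Set X)
    (hU : ∀ i, IsOpen (U i)) (hcov : ⋃ i, U i = Set.univ) :
    topologicalKrullDim X ≤ ⨆ i, topologicalKrullDim (U i) :=
  TopDimLib.dim_le fun p => by
    obtain ⟨x, hx⟩ := p.head.isIrreducible.nonempty
    obtain ⟨i, hi⟩ := Set.mem_iUnion.1 (hcov ▸ Set.mem_univ x : x ∈ ⋃ i, U i)
    exact (TopDimLib.length_le_of_head_inter p (hU i) ⟨x, hx, hi⟩).trans
      (le_iSup (fun i => topologicalKrullDim (U i)) i)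

theorem dim_eq_iSup_of_open_cover {X : Type u} [TopologicalSpace X] {ι : Type u} (U : ι → Set X)
    (hU : ∀ i, IsOpen (U i)) (hcov : ⋃ i, U i = Set.univ) :
    topologicalKrullDim X = ⨆ i, topologicalKrullDim (U i) :=
  le_antisymm (dim_le_iSup_of_open_cover U hU hcov)
    (iSup_le fun i => topologicalKrullDim_subspace_le X (U i))

theorem dim_eq_iSup_of_openCover {X : Scheme.{u}} (𝒰 : X.OpenCover.{u}) :
    topologicalKrullDim X = ⨆ i, topologicalKrullDim (𝒰.X i) := by
  rw [dim_eq_iSup_of_open_cover (fun i => Set.range (𝒰.f i)) (fun i => (𝒰.f i).isOpenEmbedding.isOpen_range)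
    𝒰.iUnion_range]
  congr 1
  funext i
  exact (IsHomeomorph.topologicalKrullDim_eq _
    (𝒰.f i).isOpenEmbedding.isEmbedding.toHomeomorph.isHomeomorph).symm

theorem dim_pullback_field_affine {A : CommRingCat.{u}} (φ : CommRingCat.of k ⟶ A)
    (hft : φ.hom.FiniteType) :
    topologicalKrullDim ↥(pullback (Spec.map φ) (Spec.map (CommRingCat.ofHom (algebraMap k K)))) =
      topologicalKrullDim ↥(Spec A) := by
  algebraize [φ.hom]
  have e : pullback (Spec.map φ) (Spec.map (CommRingCat.ofHom (algebraMap k K))) ≅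
      Spec (CommRingCat.of (K ⊗[k] A)) :=
    pullbackSymmetry _ _ ≪≫ pullbackSpecIso k K A
  rw [IsHomeomorph.topologicalKrullDim_eq _ e.hom.homeomorph.isHomeomorph]
  exact (PrimeSpectrum.topologicalKrullDim_eq_ringKrullDim _).trans
    ((ringKrullDim_tensor_field (k := k) (K := K) A).trans
      (PrimeSpectrum.topologicalKrullDim_eq_ringKrullDim _).symm)

theorem dim_pullback_field {X : Scheme.{u}} (f : X ⟶ Spec (CommRingCat.of k))
    [LocallyOfFiniteType f] :
    topologicalKrullDim ↥(pullback f (Spec.map (CommRingCat.ofHom (algebraMap k K)))) =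
      topologicalKrullDim X := by
  rw [dim_eq_iSup_of_openCover X.affineCover,
    dim_eq_iSup_of_openCover (Scheme.Pullback.openCoverOfLeft X.affineCover f
      (Spec.map (CommRingCat.ofHom (algebraMap k K))))]
  refine iSup_congr fun (i : X.affineCover.I₀) => ?_
  obtain ⟨φ, hφ⟩ := Spec.map_surjective (X.affineCover.f i ≫ f)
  have hft : φ.hom.FiniteType := by
    rw [← HasRingHomProperty.Spec_iff (P := @LocallyOfFiniteType), hφ]
    have : IsOpenImmersion (X.affineCover.f i) := X.affineCover.map_prop i
    exact MorphismProperty.comp_mem _ _ _ (inferInstance : LocallyOfFiniteType (X.affineCover.f i)) inferInstance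
  change topologicalKrullDim ↥(pullback (X.affineCover.f i ≫ f)
    (Spec.map (CommRingCat.ofHom (algebraMap k K)))) = _
  refine Eq.trans ?_ (dim_pullback_field_affine (K := K) φ hft)
  rw [hφ]
  rfl

end Groth.Agent.FieldExtDim
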