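import Groth.Agent.FieldExtDim.Basic
import Groth.Agent.DimTheory.Fibre
import Mathlib.RingTheory.Ideal.MinimalPrime.Localization
import Mathlib.AlgebraicGeometry.Morphisms.UniversallyOpen

/-!
# Irreducible components keep their dimension under extensions of the base field
-/

set_option autoImplicit false

universe u

open CategoryTheory CategoryTheory.Limits AlgebraicGeometry TensorProduct

namespace Groth.Agent.FieldExtDim

/-- A finitely generated torsion-free module over a domain embeds in a free module. -/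
theorem exists_injective_free (R : Type u) [CommRing R] [IsDomain R] (M : Type u) [AddCommGroup M]
    [Module R M] [Module.Finite R M] [Module.IsTorsionFree R M] :
    ∃ (ι : Type u) (g : M →ₗ[R] ι →₀ R), Function.Injective g := by
  classical
  obtain ⟨s, hs, hspan⟩ := exists_maximal_linearIndepOn R (fun m : M => m)
  have ex : ∀ m : M, ∃ a : R, a ≠ 0 ∧ a • m ∈ Submodule.span R s := fun m => by
    by_cases hm : m ∈ s
    · exact ⟨1, one_ne_zero, by rw [one_smul]; exact Submodule.subset_span hm⟩
    · obtain ⟨a, ha, hmem⟩ := hspan m hm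
      exact ⟨a, ha, by simpa using hmem⟩
  choose a ha hmem using ex
  obtain ⟨T, hT⟩ := (Module.finite_def (R := R) (M := M)).1 inferInstance
  let c := ∏ m ∈ T, a m
  have hc : c ≠ 0 := Finset.prod_ne_zero_iff.2 fun m _ => ha m
  have hli : LinearIndependent R ((↑) : s → M) := hs
  have hcm : ∀ m : M, c • m ∈ Submodule.span R (Set.range ((↑) : s → M)) := by
    rw [Subtype.range_coe]
    suffices (⊤ : Submodule R M) ≤ (Submodule.span R s).comap (LinearMap.lsmul R M c) from
      fun m => this (Submodule.mem_top (x := m))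
    rw [← hT, Submodule.span_le]
    intro m hm
    obtain ⟨d, hd⟩ : a m ∣ c := Finset.dvd_prod_of_mem a hm
    show c • m ∈ Submodule.span R s
    rw [hd, mul_comm, mul_smul]
    exact Submodule.smul_mem _ d (hmem m)
  refine ⟨s, hli.repr.comp ((LinearMap.lsmul R M c).codRestrict _ hcm), fun m m' h => ?_⟩
  have hr : Function.Injective hli.repr := LinearMap.ker_eq_bot.1 hli.repr_ker
  have h' : c • m = c • m' := congrArg Subtype.val (hr h)
  exact smul_right_injective M hc h'

variable {k K : Type u} [Field k] [Field K] [Algebra k K]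

/-- All components of `Spec (K ⊗ A)` have the dimension of the domain `A`. -/
theorem ringKrullDim_quotient_minimalPrime (A : Type u) [CommRing A] [IsDomain A] [Algebra k A]
    [Algebra.FiniteType k A] (q : Ideal (K ⊗[k] A)) (hq : q ∈ minimalPrimes (K ⊗[k] A)) :
    ringKrullDim ((K ⊗[k] A) ⧸ q) = ringKrullDim A := by
  classical
  obtain ⟨n, g, hg, hfin, hd⟩ := DimTheory.exists_normalization k A
  rw [hd]
  let S := K ⊗[k] MvPolynomial (Fin n) k
  let h : S →ₐ[k] K ⊗[k] A := Algebra.TensorProduct.map (AlgHom.id k K) g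
  have hf : h.toRingHom.Finite :=
    RingHom.Finite.tensorProductMap (f := AlgHom.id k K) (RingEquiv.refl K).finite hfin
  let eS : S ≃+* MvPolynomial (Fin n) K :=
    (MvPolynomial.algebraTensorAlgEquiv (R := k) (σ := Fin n) (A := K)).toRingEquiv
  have : IsDomain S := eS.toMulEquiv.isDomain _
  have key : ∀ s : S, h s ∈ q → s = 0 := by
    intro s hs
    by_contra hne
    algebraize [g.toRingHom]
    have : Module.Finite (MvPolynomial (Fin n) k) A := hfin
    have : IsScalarTower k (MvPolynomial (Fin n) k) A :=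
      IsScalarTower.of_algebraMap_eq fun r => (g.commutes r).symm
    have : Module.IsTorsionFree (MvPolynomial (Fin n) k) A :=
      Module.isTorsionFree_iff_algebraMap_injective.2 hg
    obtain ⟨ι, u, hu⟩ := exists_injective_free (MvPolynomial (Fin n) k) A
    let ψ : K ⊗[k] A →ₗ[k] ι →₀ S :=
      (TensorProduct.finsuppRight k k K (MvPolynomial (Fin n) k) ι).toLinearMap ∘ₗ
        (u.restrictScalars k).lTensor K
    have hψ : Function.Injective ψ := fun x y hxy =>
      Module.Flat.lTensor_preserves_injective_linearMap (M := K) (u.restrictScalars k) hu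
        ((TensorProduct.finsuppRight k k K (MvPolynomial (Fin n) k) ι).injective hxy)
    have hmul : ∀ (t : K ⊗[k] MvPolynomial (Fin n) k) (b : K ⊗[k] A), ψ (h t * b) = (t : S) • ψ b := by
      intro t b
      induction b with
      | zero => simp
      | add x y hx hy => rw [mul_add, map_add, map_add, hx, hy, smul_add]
      | tmul d a =>
        induction t with
        | zero => rw [map_zero, zero_mul, map_zero]; exact (zero_smul S (ψ (d ⊗ₜ[k] a))).symm
        | add x y hx hy => rw [map_add, add_mul, map_add, hx, hy, add_smul]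
        | tmul c r =>
          ext i
          have hu' : u (g r * a) = r • u a := by
            rw [← map_smul]; rfl
          have e1 : h (c ⊗ₜ[k] r) * d ⊗ₜ[k] a = (c * d) ⊗ₜ[k] (g r * a) :=
            (congrArg (· * d ⊗ₜ[k] a) (Algebra.TensorProduct.map_tmul _ _ c r)).trans
              (Algebra.TensorProduct.tmul_mul_tmul _ _ _ _)
          show (TensorProduct.finsuppRight k k K (MvPolynomial (Fin n) k) ι)
            ((u.restrictScalars k).lTensor K (h (c ⊗ₜ[k] r) * d ⊗ₜ[k] a)) i =
            (c ⊗ₜ[k] r : S) * (TensorProduct.finsuppRight k k K (MvPolynomial (Fin n) k) ι)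
            ((u.restrictScalars k).lTensor K (d ⊗ₜ[k] a)) i
          rw [e1, LinearMap.lTensor_tmul, LinearMap.lTensor_tmul,
            TensorProduct.finsuppRight_apply_tmul_apply, TensorProduct.finsuppRight_apply_tmul_apply,
            LinearMap.restrictScalars_apply, LinearMap.restrictScalars_apply, hu', Finsupp.smul_apply,
            smul_eq_mul]
          exact (Algebra.TensorProduct.tmul_mul_tmul _ _ _ _).symm
    refine notMem_nonZeroDivisors_of_mem_mem_minimalPrimes hs hq ?_
    rw [mem_nonZeroDivisors_iff_right]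
    intro b hb
    apply hψ
    have h2 := hmul s b
    rw [mul_comm, hb, map_zero] at h2
    rw [map_zero]
    exact (smul_eq_zero.1 h2.symm).resolve_left hne
  let φ : S →+* (K ⊗[k] A) ⧸ q := (Ideal.Quotient.mk q).comp h.toRingHom
  have hφf : φ.Finite := RingHom.Finite.comp (RingHom.Finite.of_surjective _ Ideal.Quotient.mk_surjective) hf
  algebraize [φ]
  have : Module.Finite S ((K ⊗[k] A) ⧸ q) := hφf
  have : FaithfulSMul S ((K ⊗[k] A) ⧸ q) :=
    (faithfulSMul_iff_algebraMap_injective _ _).2
      ((injective_iff_map_eq_zero _).2 fun s hs => key s (Ideal.Quotient.eq_zero_iff_mem.1 hs))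
  rw [DimTheory.ringKrullDim_eq_of_integral S ((K ⊗[k] A) ⧸ q), ringKrullDim_eq_of_ringEquiv eS,
    DimTheory.ringKrullDim_mvPolynomial_fin]

theorem ringKrullDim_quotient_of_comap (A : Type u) [CommRing A] [Algebra k A]
    [Algebra.FiniteType k A] (p : Ideal (K ⊗[k] A)) (hp : p ∈ minimalPrimes (K ⊗[k] A))
    (P : Ideal A) [P.IsPrime]
    (hP : p.comap (Algebra.TensorProduct.includeRight : A →ₐ[k] K ⊗[k] A).toRingHom = P) :
    ringKrullDim ((K ⊗[k] A) ⧸ p) = ringKrullDim (A ⧸ P) := by
  let mkP : A →ₐ[k] A ⧸ P := Ideal.Quotient.mkₐ k P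
  have hmk : Function.Surjective mkP := Ideal.Quotient.mk_surjective
  let π : K ⊗[k] A →ₐ[k] K ⊗[k] (A ⧸ P) := Algebra.TensorProduct.map (AlgHom.id k K) mkP
  have hπ : Function.Surjective π := by
    intro y
    induction y with
    | zero => exact ⟨0, map_zero _⟩
    | add x y hx hy =>
      obtain ⟨a, rfl⟩ := hx
      obtain ⟨b, rfl⟩ := hy
      exact ⟨a + b, map_add _ _ _⟩
    | tmul c a =>
      obtain ⟨b, rfl⟩ := hmk a
      exact ⟨c ⊗ₜ b, Algebra.TensorProduct.map_tmul _ _ _ _⟩
  have hker : RingHom.ker π.toRingHom ≤ p := by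
    change RingHom.ker π ≤ p
    rw [show RingHom.ker π = _ from Algebra.TensorProduct.lTensor_ker mkP hmk, Ideal.map_le_iff_le_comap]
    exact (Ideal.Quotient.mkₐ_ker k P).le.trans (le_of_eq hP.symm)
  let q' := p.map π.toRingHom
  have hcm : q'.comap π.toRingHom = p :=
    (Ideal.comap_map_of_surjective _ hπ _).trans (sup_eq_left.2 hker)
  have : p.IsPrime := Ideal.minimalPrimes_isPrime hp
  have hq' : q' ∈ minimalPrimes (K ⊗[k] (A ⧸ P)) := by
    refine ⟨⟨Ideal.map_isPrime_of_surjective hπ hker, bot_le⟩, fun J hJ hle => ?_⟩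
    have := hJ.1
    have h2 : p ≤ J.comap π.toRingHom := hp.2 ⟨Ideal.IsPrime.comap _, bot_le⟩
      ((Ideal.comap_mono hle).trans hcm.le)
    calc q' ≤ (J.comap π.toRingHom).map π.toRingHom := Ideal.map_mono h2
      _ = J := Ideal.map_comap_of_surjective _ hπ J
  rw [← ringKrullDim_quotient_minimalPrime (A ⧸ P) q' hq']
  let ψ := (Ideal.Quotient.mk q').comp π.toRingHom
  have hψ : Function.Surjective ψ := Ideal.Quotient.mk_surjective.comp hπ
  have hψk : RingHom.ker ψ = p := by
    rw [← RingHom.comap_ker, Ideal.mk_ker, hcm]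
  exact ringKrullDim_eq_of_ringEquiv
    ((Ideal.quotEquivOfEq hψk.symm).trans (RingHom.quotientKerEquivOfSurjective hψ))

theorem height_openImmersion {F : Type u} [Field F] {X W : Scheme.{u}}
    (f : X ⟶ Spec (CommRingCat.of F)) [LocallyOfFiniteType f] (j : W ⟶ X) [IsOpenImmersion j] (w : W) :
    Order.height (j w) = Order.height w := by
  have hj : LocallyOfFiniteType j := inferInstance
  have : LocallyOfFiniteType (j ≫ f) := MorphismProperty.comp_mem _ _ _ hj inferInstance
  obtain ⟨a, ha, ha'⟩ := DimTheory.exists_height_eq (j ≫ f) w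
  obtain ⟨b, hb, hb'⟩ := DimTheory.exists_height_eq f (j w)
  rw [DimTheory.resTrdeg_comp, DimTheory.mapTrdeg_eq_zero, add_zero, hb] at ha
  rw [ha', hb', Nat.cast_injective (R := Cardinal.{u}) ha]

theorem height_affine {A : CommRingCat.{u}} (φ : CommRingCat.of k ⟶ A) (hft : φ.hom.FiniteType)
    (w : ↥(pullback (Spec.map φ) (Spec.map (CommRingCat.ofHom (algebraMap k K)))))
    (hw : ∀ v, v ⤳ w → v = w) :
    Order.height w =
      Order.height (pullback.fst (Spec.map φ) (Spec.map (CommRingCat.ofHom (algebraMap k K))) w) := by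
  algebraize [φ.hom]
  let T := CommRingCat.of (K ⊗[k] A)
  let σ : pullback (Spec.map φ) (Spec.map (CommRingCat.ofHom (algebraMap k K))) ≅ Spec T :=
    pullbackSymmetry _ _ ≪≫ pullbackSpecIso k K A
  let ι : A ⟶ T := CommRingCat.ofHom (Algebra.TensorProduct.includeRight : A →ₐ[k] K ⊗[k] A).toRingHom
  have hσ : σ.hom ≫ Spec.map ι =
      pullback.fst (Spec.map φ) (Spec.map (CommRingCat.ofHom (algebraMap k K))) := by
    show ((pullbackSymmetry _ _).hom ≫ (pullbackSpecIso k K A).hom) ≫ _ = _
    rw [Category.assoc]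
    exact (congrArg ((pullbackSymmetry _ _).hom ≫ ·) (pullbackSpecIso_hom_snd k K A)).trans
      (pullbackSymmetry_hom_comp_snd _ _)
  let stT := Spec.map (CommRingCat.ofHom (Algebra.TensorProduct.includeLeftRingHom : K →+* K ⊗[k] A))
  have : Algebra.FiniteType K (K ⊗[k] A) := inferInstance
  have : LocallyOfFiniteType stT :=
    (HasRingHomProperty.Spec_iff (P := @LocallyOfFiniteType)).2
      (RingHom.finiteType_algebraMap.2 inferInstance :
        (algebraMap K (K ⊗[k] A)).FiniteType)
  have hmax : ∀ v : Spec T, v ⤳ σ.hom w → v = σ.hom w := fun v hv => by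
    obtain ⟨v, rfl⟩ := σ.hom.homeomorph.surjective v
    exact congrArg σ.hom (hw v (σ.hom.homeomorph.isInducing.specializes_iff.1 hv))
  let p : PrimeSpectrum (K ⊗[k] A) := σ.hom w
  have hp : p.asIdeal ∈ minimalPrimes (K ⊗[k] A) :=
    ⟨⟨p.isPrime, bot_le⟩, fun J hJ hle => by
      have h2 : (⟨J, hJ.1⟩ : PrimeSpectrum (K ⊗[k] A)) ⤳ p :=
        (PrimeSpectrum.le_iff_specializes _ _).1 hle
      exact (congrArg PrimeSpectrum.asIdeal (hmax _ h2)).ge⟩
  rw [← height_openImmersion stT σ.hom w, ← hσ, Scheme.Hom.comp_apply]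
  apply WithBot.coe_injective
  rw [DimTheory.height_spec, DimTheory.height_spec]
  exact ringKrullDim_quotient_of_comap A p.asIdeal hp (Spec.map ι (σ.hom w)).asIdeal rfl

theorem height_affine' {A : CommRingCat.{u}} (h : Spec A ⟶ Spec (CommRingCat.of k))
    (hft : LocallyOfFiniteType h)
    (w : ↥(pullback h (Spec.map (CommRingCat.ofHom (algebraMap k K)))))
    (hw : ∀ v, v ⤳ w → v = w) :
    Order.height w = Order.height (pullback.fst h (Spec.map (CommRingCat.ofHom (algebraMap k K))) w) := by
  obtain ⟨φ, rfl⟩ := Spec.map_surjective h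
  exact height_affine φ ((HasRingHomProperty.Spec_iff (P := @LocallyOfFiniteType)).1 hft) w hw

theorem height_of_isMax {X : Scheme.{u}} (f : X ⟶ Spec (CommRingCat.of k)) [LocallyOfFiniteType f]
    (z : ↥(pullback f (Spec.map (CommRingCat.ofHom (algebraMap k K)))))
    (hz : ∀ w, w ⤳ z → w = z) :
    (∀ x, x ⤳ pullback.fst f (Spec.map (CommRingCat.ofHom (algebraMap k K))) z →
      x = pullback.fst f (Spec.map (CommRingCat.ofHom (algebraMap k K))) z) ∧
    Order.height z = Order.height (pullback.fst f (Spec.map (CommRingCat.ofHom (algebraMap k K))) z) := by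
  let g := Spec.map (CommRingCat.ofHom (algebraMap k K))
  have : Flat g := Flat.SpecMap_iff.2 (RingHom.flat_algebraMap_iff.2 inferInstance)
  have : Flat (pullback.fst f g) := MorphismProperty.pullback_fst _ _ this
  refine ⟨fun x hx => ?_, ?_⟩
  · obtain ⟨w, hw, rfl⟩ := Flat.generalizingMap (pullback.fst f g) hx
    rw [hz w hw]
  obtain ⟨i, w, hw⟩ := (Scheme.Pullback.openCoverOfLeft X.affineCover f g).exists_eq z
  have hj : IsOpenImmersion (X.affineCover.f i) := X.affineCover.map_prop i
  let m : pullback (X.affineCover.f i ≫ f) g ⟶ pullback f g :=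
    (Scheme.Pullback.openCoverOfLeft X.affineCover f g).f i
  have : IsOpenImmersion m := (Scheme.Pullback.openCoverOfLeft X.affineCover f g).map_prop i
  have hm : m ≫ pullback.fst f g = pullback.fst (X.affineCover.f i ≫ f) g ≫ X.affineCover.f i :=
    pullback.lift_fst _ _ _
  have hmax : ∀ v, v ⤳ w → v = w := fun v hv => m.isOpenEmbedding.injective
    ((hz _ ((hv.map m.continuous).trans (specializes_of_eq hw))).trans hw.symm)
  have : LocallyOfFiniteType (pullback.snd f g) := MorphismProperty.pullback_snd _ _ inferInstance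
  have hmw : m w = z := hw
  rw [← hmw, height_openImmersion (pullback.snd f g) m, ← Scheme.Hom.comp_apply, hm,
    Scheme.Hom.comp_apply, height_openImmersion f (X.affineCover.f i)]
  exact height_affine' (X.affineCover.f i ≫ f) (MorphismProperty.comp_mem _ _ _
      (inferInstance : LocallyOfFiniteType (X.affineCover.f i)) inferInstance) w hmax

end Groth.Agent.FieldExtDim
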